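import Cfsg.Agent.H39.FusionShape.Sys
import Cfsg.Agent.H39.DihedralKlein
import Cfsg.Agent.H39.Basic
import Cfsg.Agent.H78.Zass.Solvable

/-!
Two classes of candidates for essential subgroups: comparison of systems by the automisers on the candidates, and
criteria in a finite group for the candidates to have odd-order automorphisms.
-/

set_option autoImplicit false
set_option linter.style.haveILetI false

namespace Cfsg.Agent.H39.FusionShape

open Cfsg Cfsg.FusionSystem Cfsg.Agent.FusionSys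

universe u

variable {X : Type u} [Group X]

/-- Two classes of subgroups containing all self-centralising subgroups with odd-order automorphisms. -/
structure Shape (X : Type u) [Group X] where
  Cand : Bool → Subgroup X → Prop
  top : IsPGroup 2 (MulAut (⊤ : Subgroup X))
  cover : ∀ P : Subgroup X, P ≠ ⊤ → Subgroup.centralizer (P : Set X) ≤ P → ¬ IsPGroup 2 (MulAut P) →
    ∃ i, Cand i P
  conj : ∀ i (P Q : Subgroup X), Cand i P → Cand i Q → ∃ s : X, P.map (MulAut.conj s).toMonoidHom = Q

namespace Shape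

variable [Finite X] (D : Shape X)

/-- The class is fused by an automorphism of odd order. -/
def Has (F : Sys X) (i : Bool) : Prop := ∃ P, D.Cand i P ∧ NT F P

omit [Finite X] in
theorem has_def {F : Sys X} {i : Bool} : D.Has F i ↔ ∃ P, D.Cand i P ∧ NT F P := Iff.rfl

theorem nt_of_has {F : Sys X} {i : Bool} (h : D.Has F i) {P : Subgroup X} (hP : D.Cand i P) : NT F P := by
  obtain ⟨Q, hQ, hn⟩ := h
  obtain ⟨s, hs⟩ := D.conj i Q P hQ hP
  exact nt_conj hs hn

theorem exists_cand (hX : IsPGroup 2 X) {F : Sys X} (hF : F.IsSaturated 2) {P : Subgroup X}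
    (h : F.IsEssential 2 P) : ∃ i, D.Cand i P ∧ D.Has F i := by
  have hn := nt_of_isEssential h
  obtain ⟨i, hi⟩ := D.cover P (lt_top_of_isEssential hX hF h).ne (centralizer_le_of_isEssential h)
    fun hp => hn (hp.to_subgroup _)
  exact ⟨i, hi, P, hi, hn⟩

theorem isConj_of_cand {F : Sys X} {i : Bool} {P Q : Subgroup X} (hP : D.Cand i P) (hQ : D.Cand i Q) :
    F.IsConj P Q := by
  obtain ⟨s, hs⟩ := D.conj i P Q hP hQ
  refine (IsIso.isConj (f := conjMap s) ⟨isMap_conj F (le_top' P) (Subgroup.mem_top s), ?_⟩)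
  rw [← hs, Subgroup.coe_map]
  rfl

include D in
theorem two_classes (hX : IsPGroup 2 X) {F : Sys X} (hF : F.IsSaturated 2) (E₁ E₂ E₃ : Subgroup X)
    (h₁ : F.IsEssential 2 E₁) (h₂ : F.IsEssential 2 E₂) (h₃ : F.IsEssential 2 E₃) :
    F.IsConj E₁ E₂ ∨ F.IsConj E₁ E₃ ∨ F.IsConj E₂ E₃ := by
  obtain ⟨i, hi, -⟩ := D.exists_cand hX hF h₁
  obtain ⟨k, hk, -⟩ := D.exists_cand hX hF h₂
  obtain ⟨l, hl, -⟩ := D.exists_cand hX hF h₃
  by_cases h12 : i = k
  · exact Or.inl (D.isConj_of_cand (h12 ▸ hi) hk)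
  by_cases h13 : i = l
  · exact Or.inr (Or.inl (D.isConj_of_cand (h13 ▸ hi) hl))
  have h23 : k = l := by revert h12 h13; cases i <;> cases k <;> cases l <;> simp
  exact Or.inr (Or.inr (D.isConj_of_cand (h23 ▸ hk) hl))

/-- The automisers of the candidates are determined by whether they are 2-groups. -/
def Pinned : Prop :=
  ∀ i P, D.Cand i P → ∀ F E : Sys X, F.IsSaturated 2 → E.IsSaturated 2 → F.IsEssential 2 P → NT E P →
    F.autGroup P ≤ E.autGroup P

include D in
theorem eq_of_le_le (hX : IsPGroup 2 X) {F E : Sys X} (hF : F.IsSaturated 2) (hE : E.IsSaturated 2)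
    (hFE : ∀ i P, D.Cand i P → F.IsEssential 2 P → F.autGroup P ≤ E.autGroup P)
    (hEF : ∀ i P, D.Cand i P → E.IsEssential 2 P → E.autGroup P ≤ F.autGroup P) : F = E := by
  refine le_antisymm' (isSaturated_le_of_essential hX D.top hF fun P hP => ?_)
    (isSaturated_le_of_essential hX D.top hE fun P hP => ?_)
  · obtain ⟨i, hi, -⟩ := D.exists_cand hX hF hP
    exact hFE i P hi hP
  · obtain ⟨i, hi, -⟩ := D.exists_cand hX hE hP
    exact hEF i P hi hP

theorem eq_of_profile (hX : IsPGroup 2 X) (hpin : D.Pinned) {F E : Sys X} (hF : F.IsSaturated 2)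
    (hE : E.IsSaturated 2) (hh : ∀ i, D.Has F i ↔ D.Has E i) : F = E :=
  D.eq_of_le_le hX hF hE
    (fun i P hi hP => hpin i P hi F E hF hE hP
      (D.nt_of_has ((hh i).1 ⟨P, hi, nt_of_isEssential hP⟩) hi))
    (fun i P hi hP => hpin i P hi E F hE hF hP
      (D.nt_of_has ((hh i).2 ⟨P, hi, nt_of_isEssential hP⟩) hi))

include D in
theorem realizable_of_none (hX : IsPGroup 2 X) {F : Sys X} (hF : F.IsSaturated 2)
    (h : ∀ i, ¬ D.Has F i) : F.IsRealizable 2 :=
  realizable_of_no_essential hX hF fun P hP => by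
    obtain ⟨i, -, hi⟩ := D.exists_cand hX hF hP
    exact h i hi

/-- The profile is realised by some group. -/
theorem realizable_of_model (hX : IsPGroup 2 X) (hpin : D.Pinned) {F : Sys X} (hF : F.IsSaturated 2)
    {G : Type u} [Group G] [Finite G] (j : X →* G) (hj : Function.Injective j)
    (hT : ∃ T : Sylow 2 G, (T : Subgroup G) = j.range)
    (hh : ∀ i, D.Has F i ↔ D.Has (pullSys j hj) i) : F.IsRealizable 2 := by
  rw [D.eq_of_profile hX hpin hF (isSaturated_pull hj hX hT) hh]
  exact realizable_pull hj hT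

end Shape

/-! ### Criteria in a group -/

section Criteria

variable [Finite X] {G : Type u} [Group G] [Finite G] {j : X →* G} (hj : Function.Injective j)

theorem commutator_top_le_of_index_two {K : Subgroup X} (hK : K.index = 2) :
    ⁅(⊤ : Subgroup X), (⊤ : Subgroup X)⁆ ≤ K := by
  rw [Subgroup.commutator_le]
  intro a _ b _
  have ha : ∀ c : X, c⁻¹ ∈ K ↔ c ∈ K := fun c => inv_mem_iff
  simp only [commutatorElement_def, Subgroup.mul_mem_iff_of_index_two hK, ha]
  tauto

include hj in
omit [Finite G] in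
theorem isMap_pull_zpowers {a b : X} {u : G} (hab : j b = u * j a * u⁻¹) :
    ∃ f : X → X, IsMap (pullSys j hj) (Subgroup.zpowers a) f ∧ f a = b := by
  have hmem : ∀ y : Subgroup.zpowers a, u * j (y : X) * u⁻¹ ∈ j.range := by
    rintro ⟨_, k, rfl⟩
    exact ⟨b ^ k, by rw [map_zpow, map_zpow, hab, conj_zpow]⟩
  let ψ : Subgroup.zpowers a →* G :=
    (MulAut.conj u).toMonoidHom.comp (j.comp (Subgroup.zpowers a).subtype)
  let φ : Subgroup.zpowers a →* X :=
    (MonoidHom.ofInjective hj).symm.toMonoidHom.comp (ψ.codRestrict j.range hmem)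
  have hφ : ∀ y, j (φ y) = u * j (y : X) * u⁻¹ := fun y => by
    show j ((MonoidHom.ofInjective hj).symm ⟨ψ y, hmem y⟩) = _
    rw [MonoidHom.apply_ofInjective_symm]
    rfl
  refine ⟨homFun φ, isMap_of_mem ⟨u, hφ⟩, hj ?_⟩
  rw [homFun_mem φ (Subgroup.mem_zpowers a), hφ, hab]

/-- In a perfect group some essential subgroup leaves every proper subgroup containing the commutators. -/
theorem not_all_essential_le_of_perfect (hX : IsPGroup 2 X) (D : Shape X) (hG : commutator G = ⊤)
    (hT : ∃ T : Sylow 2 G, (T : Subgroup G) = j.range) {K : Subgroup X} (hK : K.index = 2)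
    (h : ∀ P, (pullSys j hj).IsEssential 2 P → P ≤ K) : False := by
  obtain ⟨T, hT'⟩ := hT
  have hle : commutator G ⊓ (T : Subgroup G) ≤ K.map j := by
    refine commutator_inf_le_of_fusion T fun x hx v hv => ?_
    rw [hT'] at hx hv
    obtain ⟨a, rfl⟩ := hx
    obtain ⟨b, hb⟩ := hv
    obtain ⟨f, hf, hfa⟩ := isMap_pull_zpowers hj hb
    have := mem_of_isMap hX D.top (isSaturated_pull hj hX ⟨T, hT'⟩)
      (commutator_top_le_of_index_two hK) h hf (Subgroup.mem_zpowers a)
    rw [hfa] at this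
    refine ⟨_, this, ?_⟩
    rw [map_mul, map_inv, hb]
  rw [hG, top_inf_eq, hT', MonoidHom.range_eq_map] at hle
  have htop : (⊤ : Subgroup X) ≤ K := (Subgroup.map_le_map_iff_of_injective hj).1 hle
  rw [top_le_iff] at htop
  rw [htop, Subgroup.index_top] at hK
  omega

theorem has_of_perfect (hX : IsPGroup 2 X) (D : Shape X) (hG : commutator G = ⊤)
    (hT : ∃ T : Sylow 2 G, (T : Subgroup G) = j.range) (i : Bool) {K : Subgroup X} (hK : K.index = 2)
    (hKc : ∀ P, D.Cand (!i) P → P ≤ K) : D.Has (pullSys j hj) i := by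
  by_contra hcon
  refine not_all_essential_le_of_perfect hj hX D hG hT hK fun P hP => ?_
  obtain ⟨k, hk, hh⟩ := D.exists_cand hX (isSaturated_pull hj hX hT) hP
  have hki : k = !i := by
    revert hh hcon; cases i <;> cases k <;> simp_all
  exact hKc P (hki ▸ hk)

omit [Finite G] in
theorem le_comap_of_nt (hX : IsPGroup 2 X) {N : Subgroup G} (hN : N.index = 2) {P : Subgroup X}
    (hP : ∀ K : Subgroup P, K.index = 2 → IsCyclic K) (hn : NT (pullSys j hj) P) : P ≤ N.comap j := by
  by_contra hle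
  obtain ⟨φ, hφ, ho, h1⟩ := nt_exists_odd hn
  obtain ⟨g, hg⟩ := (mem_aut_pull hj).1 hφ
  have hNn := Subgroup.normal_of_index_eq_two hN
  set K := (N.comap j).subgroupOf P with hKdef
  have hK : K.index = 2 := by
    obtain ⟨a, ha, haN⟩ := SetLike.not_le_iff_exists.1 hle
    rw [Subgroup.index_eq_two_iff]
    refine ⟨⟨a, ha⟩, fun b => ?_⟩
    simp only [hKdef, Subgroup.mem_subgroupOf, Subgroup.mem_comap, Subgroup.coe_mul, map_mul,
      Subgroup.mul_mem_iff_of_index_two hN]
    rw [Subgroup.mem_comap] at haN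
    by_cases hb : j (b : X) ∈ N
    · exact Or.inr ⟨hb, fun h => haN (h.1 hb)⟩
    · exact Or.inl ⟨iff_of_false hb haN, hb⟩
  refine h1 (eq_one_of_cyclic_index_two hX ho hK (hP K hK) fun k hk => ?_)
  rw [hKdef, Subgroup.mem_subgroupOf, Subgroup.mem_comap, hg]
  exact hNn.conj_mem _ hk g

omit [Finite G] in
theorem fix_of_central {P : Subgroup X} {φ : MulAut P} (hφ : φ ∈ (pullSys j hj).autGroup P) {x : P}
    (hx : j (x : X) ∈ Subgroup.center G) : φ x = x := by
  obtain ⟨g, hg⟩ := (mem_aut_pull hj).1 hφ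
  refine Subtype.ext (hj ?_)
  rw [hg, Subgroup.mem_center_iff.1 hx g, mul_inv_cancel_right]

/-- A perfect subgroup of even order forces an essential subgroup. -/
theorem has_some_of_perfect_subgroup (hX : IsPGroup 2 X) (D : Shape X)
    (hT : ∃ T : Sylow 2 G, (T : Subgroup G) = j.range) {L : Subgroup G} (hL : ⁅L, L⁆ = L)
    (h2 : 2 ∣ Nat.card L) : ∃ i, D.Has (pullSys j hj) i := by
  by_contra hcon
  push Not at hcon
  have hE := isSaturated_pull hj hX hT
  have hinner : pullSys j hj = innerFusionSystem (⊤ : Subgroup X) :=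
    eq_inner_of_no_essential hX D.top hE fun P hP => by
      obtain ⟨i, -, hi⟩ := D.exists_cand hX hE hP
      exact hcon i hi
  obtain ⟨T, hT'⟩ := hT
  haveI : Fact (Nat.Prime 2) := ⟨Nat.prime_two⟩
  have hnc : HasNormalPComplement 2 G := by
    refine (Fusion.frobenius_criterion T).2 fun Q hQ g hg hgo => ?_
    rw [hT'] at hQ
    have hQe : (Q.comap j).map j = Q := Subgroup.map_comap_eq_self hQ
    set P := Q.comap j
    let e : P ≃* Q := (P.equivMapOfInjective j hj).trans (MulEquiv.subgroupCongr hQe)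
    have he : ∀ x : P, ((e x : Q) : G) = j (x : X) := fun x => rfl
    set α : MulAut P := MulAut.congr e.symm (conjAutHom Q ⟨g, hg⟩) with hα
    have hαj : ∀ x : P, j (α x : X) = g * j (x : X) * g⁻¹ := fun x => by
      rw [← he, hα]
      show ((e (e.symm (conjAutHom Q ⟨g, hg⟩ (e x))) : Q) : G) = _
      rw [MulEquiv.apply_symm_apply]
      exact congrArg (fun t => g * t * g⁻¹) (he x)
    have hodd : Odd (orderOf α) := by
      have hd : orderOf α ∣ orderOf g := by
        rw [hα, MulEquiv.orderOf_eq]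
        have := orderOf_map_dvd (conjAutHom Q) ⟨g, hg⟩
        rwa [Subgroup.orderOf_mk] at this
      exact Odd.of_dvd_nat (Nat.coprime_two_right.1 hgo) hd
    have hm : α ∈ (pullSys j hj).autGroup P := (mem_aut_pull hj).2 ⟨g, hαj⟩
    have h1 : α = 1 := by
      by_contra h1
      exact not_nt_inner hX P (hinner ▸ nt_of_odd hm hodd h1)
    rw [Subgroup.mem_centralizer_iff]
    intro y hy
    have hy' := hαj (e.symm ⟨y, hy⟩)
    rw [h1] at hy'
    have hyj : j ((e.symm ⟨y, hy⟩ : P) : X) = y := by rw [← he, MulEquiv.apply_symm_apply]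
    rw [MulAut.one_apply, hyj] at hy'
    exact (mul_inv_eq_iff_eq_mul.1 hy'.symm).symm
  obtain ⟨P₀, N, hN, hNc⟩ := hnc
  haveI := hN
  have hq : IsPGroup 2 (G ⧸ N) := Fusion.isPGroup_quotient_of_isComplement' P₀ hNc
  haveI := hq.isNilpotent
  have hLN : L ≤ N := by
    have himg : L.map (QuotientGroup.mk' N) = ⊥ := by
      have hperf : ⁅L.map (QuotientGroup.mk' N), L.map (QuotientGroup.mk' N)⁆ =
          L.map (QuotientGroup.mk' N) := by rw [← Subgroup.map_commutator, hL]
      obtain ⟨n, hn⟩ := Subgroup.nilpotent_iff_lowerCentralSeries.1 (inferInstance : Group.IsNilpotent (G ⧸ N))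
      have hle : ∀ k, L.map (QuotientGroup.mk' N) ≤ Subgroup.lowerCentralSeries ⊤ k := by
        intro k
        induction k with
        | zero => simp [Subgroup.lowerCentralSeries]
        | succ k ih =>
          rw [← hperf]
          exact Subgroup.commutator_mono ih le_top
      rw [eq_bot_iff, ← hn]
      exact hle n
    rw [Subgroup.map_eq_bot_iff, QuotientGroup.ker_mk'] at himg
    exact himg
  have h2N : 2 ∣ Nat.card N := h2.trans (Subgroup.card_dvd_of_le hLN)
  exact Fusion.not_dvd_card_of_isComplement' P₀ hNc h2N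

end Criteria

/-! ### Small automiser groups -/

theorem eq_top_of_small {Y : Type*} [Group Y] [Finite Y] {a : ℕ} (hY : Nat.card Y ≤ 2 ^ a * 3)
    (R W : Subgroup Y) (hW : IsPGroup 2 W) (hWR : W ≤ R) (hWc : 2 ^ a ≤ Nat.card W) {φ : Y} (hφ : φ ∈ R)
    (ho : Odd (orderOf φ)) (h1 : φ ≠ 1) : R = ⊤ := by
  haveI : Fact (Nat.Prime 2) := ⟨Nat.prime_two⟩
  obtain ⟨k, hk⟩ := IsPGroup.iff_card.1 hW
  have hcop : (2 ^ k).Coprime (orderOf φ) := Nat.Coprime.pow_left k (Nat.coprime_two_left.2 ho)
  have hd : 2 ^ k * orderOf φ ∣ Nat.card R := by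
    refine hcop.mul_dvd_of_dvd_of_dvd (hk ▸ Subgroup.card_dvd_of_le hWR) ?_
    rw [← Nat.card_zpowers]
    exact Subgroup.card_dvd_of_le (Subgroup.zpowers_le.2 hφ)
  have h3 : 3 ≤ orderOf φ := by
    have := orderOf_pos φ
    have hne : orderOf φ ≠ 1 := fun e => h1 (orderOf_eq_one_iff.1 e)
    obtain ⟨t, ht⟩ := ho
    omega
  refine Subgroup.eq_top_of_card_eq R (le_antisymm ?_ (hY.trans ?_))
  · exact Nat.card_le_card_of_injective _ Subtype.val_injective
  · calc 2 ^ a * 3 ≤ 2 ^ k * orderOf φ := Nat.mul_le_mul (hk ▸ hWc) h3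
      _ ≤ Nat.card R := Nat.le_of_dvd Nat.card_pos hd

variable [Finite X]

/-- The automorphisms induced by the whole group properly contain the inner ones. -/
theorem two_mul_inn_le (hX : IsPGroup 2 X) {P : Subgroup X} (hC : Subgroup.centralizer (P : Set X) ≤ P)
    (hP : P ≠ ⊤) : 2 * Nat.card (Inn P) ≤ Nat.card (autInducedBy ⊤ P) := by
  haveI : Fact (Nat.Prime 2) := ⟨Nat.prime_two⟩
  have hC' : centralizerIn ⊤ P ≤ P := inf_le_right.trans hC
  have hle : Inn P ≤ autInducedBy ⊤ P := inn_le_autInducedBy le_top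
  obtain ⟨w, hw⟩ := SetLike.not_le_iff_exists.1 fun h : normalizerIn ⊤ P ≤ P =>
    absurd (lt_of_lt_of_le (lt_normalizerIn (hX.to_subgroup ⊤) (lt_top_iff_ne_top.2 hP)) h) (lt_irrefl _)
  have hne : Inn P ≠ autInducedBy ⊤ P := fun he => hw.2 (mem_of_conjAut_mem_inn hC' le_top
    (Subgroup.mem_top w) hw.1.2
    (he.symm ▸ mem_autInducedBy.2 ⟨w, Subgroup.mem_top w, hw.1.2, rfl⟩))
  haveI := finite_mulAut_of_le (le_top' P)
  obtain ⟨c, hc⟩ := Subgroup.card_dvd_of_le hle
  rcases c with _ | _ | c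
  · exact absurd hc (by simp [Nat.card_pos.ne'])
  · exact absurd (Subgroup.eq_of_le_of_card_ge hle (by rw [hc, Nat.zero_add, mul_one])) hne
  · rw [hc, mul_comm 2]
    exact Nat.mul_le_mul_left _ (by omega)

theorem card_mulAut_klein {P : Subgroup X} (hP : IsKleinFour P) : Nat.card (MulAut P) ≤ 6 := by
  classical
  haveI : Fintype P := Fintype.ofFinite P
  have hc : Fintype.card P = 4 := by rw [← Nat.card_eq_fintype_card]; exact hP.card_four
  obtain ⟨a, ha⟩ := Fintype.exists_ne_of_one_lt_card (show 1 < Fintype.card P by omega) 1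
  obtain ⟨b, -, hb⟩ := Finset.exists_mem_notMem_of_card_lt_card (s := ({1, a} : Finset P))
    (t := Finset.univ) (lt_of_le_of_lt Finset.card_le_two (by rw [Finset.card_univ]; omega))
  simp only [Finset.mem_insert, Finset.mem_singleton, not_or] at hb
  have hsq : ∀ u : P, u * u = 1 := fun u => by
    rw [← pow_two, ← hP.exponent_two, Monoid.pow_exponent_eq_one]
  have hab1 : a * b ≠ 1 := fun e => hb.2 (mul_left_cancel (e.trans (hsq a).symm))
  have huniv : ({1, a, b, a * b} : Finset P) = Finset.univ := by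
    refine Finset.eq_univ_of_card _ ?_
    rw [hc, Finset.card_insert_of_notMem, Finset.card_insert_of_notMem, Finset.card_insert_of_notMem,
      Finset.card_singleton]
    · simp only [Finset.mem_singleton]
      exact fun e => ha (mul_eq_right.1 e.symm)
    · simp only [Finset.mem_insert, Finset.mem_singleton, not_or]
      exact ⟨Ne.symm hb.2, fun e => hb.1 (mul_eq_left.1 e.symm)⟩
    · simp only [Finset.mem_insert, Finset.mem_singleton, not_or]
      exact ⟨Ne.symm ha, Ne.symm hb.1, Ne.symm hab1⟩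
  let T : Finset (P × P) := Finset.univ.filter fun q => q.1 ≠ 1 ∧ q.2 ≠ 1 ∧ q.1 ≠ q.2
  have hT : T.card ≤ 6 := by
    have hsub : T ⊆ (((Finset.univ.erase (1 : P)) ×ˢ (Finset.univ.erase (1 : P))) \
        ((Finset.univ.erase (1 : P)).image fun u => (u, u))) := by
      intro q hq
      simp only [T, Finset.mem_filter, Finset.mem_univ, true_and] at hq
      simp only [Finset.mem_sdiff, Finset.mem_product, Finset.mem_erase, Finset.mem_univ, and_true,
        Finset.mem_image, not_exists, not_and]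
      exact ⟨⟨hq.1, hq.2.1⟩, fun u _ e => hq.2.2 (by rw [← e])⟩
    refine (Finset.card_le_card hsub).trans ?_
    rw [Finset.card_sdiff_of_subset, Finset.card_product, Finset.card_image_of_injective,
      Finset.card_erase_of_mem (Finset.mem_univ _), Finset.card_univ, hc]
    · exact fun u v e => (Prod.ext_iff.1 e).1
    · intro q hq
      obtain ⟨u, hu, rfl⟩ := Finset.mem_image.1 hq
      exact Finset.mem_product.2 ⟨hu, hu⟩
  refine le_trans ?_ hT
  rw [← Nat.card_eq_finsetCard]
  refine Nat.card_le_card_of_injective (fun φ => (⟨(φ a, φ b), ?_⟩ : T)) ?_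
  · simp only [T, Finset.mem_filter, Finset.mem_univ, true_and]
    exact ⟨(map_ne_one_iff φ φ.injective).2 ha, (map_ne_one_iff φ φ.injective).2 hb.1,
      φ.injective.ne (Ne.symm hb.2)⟩
  · intro φ ψ e
    have e' := Prod.ext_iff.1 (congrArg Subtype.val e)
    refine MulEquiv.ext fun u => ?_
    have hu := Finset.mem_univ u
    rw [← huniv] at hu
    simp only [Finset.mem_insert, Finset.mem_singleton] at hu
    rcases hu with rfl | rfl | rfl | rfl
    · rw [map_one, map_one]
    · exact e'.1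
    · exact e'.2
    · rw [map_mul, map_mul]; exact congrArg₂ (· * ·) e'.1 e'.2

theorem three_le_card_inn_quaternion {P : Subgroup X} (e : P ≃* QuaternionGroup 2) :
    3 ≤ Nat.card (Inn P) := by
  classical
  haveI := finite_mulAut_of_le (le_top' P)
  have hmem : ∀ u : P, MulAut.conj u ∈ Inn P := fun u => by
    rw [inn_eq_autInducedBy_self]
    exact Subgroup.subset_closure ⟨u, u.2, fun x => rfl⟩
  have hd : ∀ q q' : QuaternionGroup 2, MulAut.conj (e.symm q) = MulAut.conj (e.symm q') →
      ∀ t, q * t * q⁻¹ = q' * t * q'⁻¹ := fun q q' h t => by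
    have := congrArg e (DFunLike.congr_fun h (e.symm t))
    simpa [MulAut.conj_apply] using this
  set i : QuaternionGroup 2 := QuaternionGroup.a 1
  set k : QuaternionGroup 2 := QuaternionGroup.xa 0
  have hik : i * k * i⁻¹ ≠ k ∧ k * i * k⁻¹ ≠ i ∧ i * i * i⁻¹ ≠ k * i * k⁻¹ := by decide
  have h1 : ∀ q t : QuaternionGroup 2, q * t * q⁻¹ ≠ t → MulAut.conj (e.symm q) ≠ 1 := fun q t ht h =>
    ht (by
      have := hd q 1 (by rw [h, map_one, map_one]) t
      simpa using this)
  let W : Finset (Inn P) := {⟨1, one_mem _⟩, ⟨_, hmem (e.symm i)⟩, ⟨_, hmem (e.symm k)⟩}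
  have hW : W.card = 3 := by
    rw [Finset.card_insert_of_notMem, Finset.card_insert_of_notMem, Finset.card_singleton]
    · simp only [Finset.mem_singleton, Subtype.mk.injEq]
      exact fun h => hik.2.2 (hd i k h i)
    · simp only [Finset.mem_insert, Finset.mem_singleton, Subtype.mk.injEq, not_or]
      exact ⟨(h1 i k hik.1).symm, (h1 k i hik.2.1).symm⟩
  haveI : Fintype (Inn P) := Fintype.ofFinite _
  rw [Nat.card_eq_fintype_card, ← hW]
  exact Finset.card_le_univ W

/-- Automisers of self-centralising four-groups and quaternion groups of order eight are everything. -/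
theorem autGroup_eq_top (hX : IsPGroup 2 X) {P : Subgroup X} (hC : Subgroup.centralizer (P : Set X) ≤ P)
    (hP : P ≠ ⊤) (hs : IsKleinFour P ∨ Nonempty (P ≃* QuaternionGroup 2)) {E : Sys X} (hn : NT E P) :
    E.autGroup P = ⊤ := by
  haveI : Fact (Nat.Prime 2) := ⟨Nat.prime_two⟩
  haveI := finite_mulAut_of_le (le_top' P)
  obtain ⟨φ, hφ, ho, h1⟩ := nt_exists_odd hn
  have hWR := autInducedBy_le_autGroup E (le_top' P)
  have hW := isPGroup_autInducedBy (hX.to_subgroup ⊤) P
  have h2 := two_mul_inn_le hX hC hP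
  rcases hs with hV | ⟨⟨e⟩⟩
  · exact eq_top_of_small (a := 1) (card_mulAut_klein hV) _ _ hW hWR
      (le_trans (by have : 0 < Nat.card (Inn P) := Nat.card_pos; omega) h2) hφ ho h1
  · refine eq_top_of_small (a := 3) ?_ _ _ hW hWR ?_ hφ ho h1
    · rw [Nat.card_congr (MulAut.congr e).toEquiv]
      exact H78.Zass.card_mulAut_q8
    · obtain ⟨k, hk⟩ := IsPGroup.iff_card.1 hW
      have h3 := three_le_card_inn_quaternion e
      rw [hk] at h2 ⊢
      refine Nat.pow_le_pow_right two_pos ?_
      by_contra hk3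
      have : 2 ^ k ≤ 2 ^ 2 := Nat.pow_le_pow_right two_pos (by omega)
      omega

theorem Shape.pinned_of_small (hX : IsPGroup 2 X) (D : Shape X)
    (h : ∀ i P, D.Cand i P → IsKleinFour P ∨ Nonempty (P ≃* QuaternionGroup 2)) : D.Pinned :=
  fun i P hi F E hF _ hP hn => by
    rw [autGroup_eq_top hX (centralizer_le_of_isEssential hP) (lt_top_of_isEssential hX hF hP).ne
      (h i P hi) hn]
    exact le_top

end Cfsg.Agent.H39.FusionShape
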