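import Cfsg.Agent.FusionSys.Transport
import Cfsg.Agent.FusionSys.Normal
import Cfsg.Agent.FusionSys.FocalControl
import Cfsg.Agent.FusionSys.ModelRealize
import Cfsg.Agent.Fusion.Frobenius
import Cfsg.Agent.H39.OddAut

/-!
Saturated fusion systems on a finite 2-group, seen as systems on the top subgroup: comparison by the automisers
of candidate subgroups, pullback of the system of a group, and criteria for automisers to be 2-groups.
-/

set_option autoImplicit false
set_option linter.style.haveILetI false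

namespace Cfsg.Agent.H39.FusionShape

open Cfsg Cfsg.FusionSystem Cfsg.Agent.FusionSys

universe u

/-- A fusion system on a group as its own top subgroup. -/
abbrev Sys (X : Type u) [Group X] := FusionSystem (⊤ : Subgroup X)

variable {X : Type u} [Group X]

/-- The automiser is not a 2-group. -/
def NT (F : Sys X) (P : Subgroup X) : Prop := ¬ IsPGroup 2 (F.autGroup P)

theorem le_top' (P : Subgroup X) : P ≤ (⊤ : Subgroup X) := le_top

theorem centralizer_le_of_isEssential {F : Sys X} {P : Subgroup X} (h : F.IsEssential 2 P) :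
    Subgroup.centralizer (P : Set X) ≤ P := fun x hx =>
  h.1.2 P (isConj_refl F (le_top' P)) ⟨Subgroup.mem_top x, hx⟩

theorem finite_aut [Finite X] (F : Sys X) (P : Subgroup X) : Finite (F.autGroup P) :=
  finite_autGroup F (le_top' P)

theorem nt_of_isEssential [Finite X] {F : Sys X} {P : Subgroup X} (h : F.IsEssential 2 P) : NT F P := by
  obtain ⟨-, -, hn, Y, hY⟩ := h
  intro hp
  haveI := finite_aut F P
  have hq : IsPGroup 2 (F.autGroup P ⧸ (Inn P).subgroupOf (F.autGroup P)) := hp.to_quotient _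
  have hbot := pCore_eq_bot_of_stronglyEmbedded hY (N := ⊤) (hq.to_subgroup ⊤)
  have hd := (isStronglyPEmbedded_iff.1 hY).1
  rw [← Subgroup.card_top, hbot, Subgroup.card_bot] at hd
  omega

theorem lt_top_of_isEssential [Finite X] (hX : IsPGroup 2 X) {F : Sys X} (hF : F.IsSaturated 2)
    {P : Subgroup X} (h : F.IsEssential 2 P) : P < ⊤ :=
  lt_of_isEssential (hX.to_subgroup ⊤) hF h

theorem nt_mono {F : Sys X} {E : Sys X} {P : Subgroup X} (h : F.autGroup P ≤ E.autGroup P)
    (hn : NT F P) : NT E P := fun hp => hn (hp.to_le h)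

theorem nt_exists_odd [Finite X] {F : Sys X} {P : Subgroup X} (h : NT F P) :
    ∃ φ ∈ F.autGroup P, Odd (orderOf φ) ∧ φ ≠ 1 := by
  haveI := finite_aut F P
  by_contra hcon
  push Not at hcon
  refine h fun φ => ?_
  obtain ⟨k, r, hr, e⟩ := Nat.exists_eq_two_pow_mul_odd (orderOf_pos φ).ne'
  refine ⟨k, ?_⟩
  have h1 : orderOf (φ ^ 2 ^ k) = r := by
    rw [orderOf_pow_of_dvd (by positivity) (e ▸ Dvd.intro r rfl), e,
      Nat.mul_div_cancel_left _ (by positivity)]
  have h2 := hcon _ (φ ^ 2 ^ k).2 (by rw [Subgroup.orderOf_coe, h1]; exact hr)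
  exact Subtype.ext h2

theorem nt_of_odd [Finite X] {F : Sys X} {P : Subgroup X} {φ : MulAut P} (hm : φ ∈ F.autGroup P)
    (ho : Odd (orderOf φ)) (h1 : φ ≠ 1) : NT F P := by
  intro hp
  haveI := finite_aut F P
  obtain ⟨k, hk⟩ := IsPGroup.iff_card.1 hp
  have hd : orderOf φ ∣ 2 ^ k := by
    rw [← hk, show orderOf φ = orderOf (⟨φ, hm⟩ : F.autGroup P) from (Subgroup.orderOf_mk φ hm).symm]
    exact orderOf_dvd_natCard _
  obtain ⟨i, -, hi⟩ := (Nat.dvd_prime_pow Nat.prime_two).1 hd
  rcases i with _ | i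
  · exact h1 (orderOf_eq_one_iff.1 hi)
  · rw [hi, pow_succ] at ho
    exact (Nat.not_odd_iff_even.2 ⟨2 ^ i, by ring⟩) ho

theorem nt_conj [Finite X] {F : Sys X} {P Q : Subgroup X} {s : X}
    (h : P.map (MulAut.conj s).toMonoidHom = Q) (hn : NT F P) : NT F Q := by
  have hi : IsIso F P Q (conjMap s) := by
    refine ⟨isMap_conj F (le_top' P) (Subgroup.mem_top s), ?_⟩
    rw [← h, Subgroup.coe_map]
    rfl
  haveI := finite_aut F P
  haveI := finite_aut F Q
  intro hq
  refine hn ?_
  obtain ⟨k, hk⟩ := IsPGroup.iff_card.1 hq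
  exact IsPGroup.of_card (n := k) (hi.card_autGroup ▸ hk)

section Generic

variable [Finite X]

theorem autGroup_top_le (hX : IsPGroup 2 X) (hA : IsPGroup 2 (MulAut (⊤ : Subgroup X))) {F : Sys X}
    (hF : F.IsSaturated 2) (E : Sys X) : F.autGroup ⊤ ≤ E.autGroup ⊤ := by
  haveI := finite_aut F ⊤
  have hfa := ((isFullyAutomized_iff (hX.to_subgroup ⊤)).1
    (isFullyAutomized_of_isFullyNormalized (hX.to_subgroup ⊤) hF (isFullyNormalized_S F))).2
  obtain ⟨k, hk⟩ := (hA.to_subgroup (F.autGroup ⊤)).index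
    ((autInducedBy ⊤ ⊤).subgroupOf (F.autGroup ⊤))
  have hk0 : k = 0 := by
    by_contra hk0
    exact hfa (by rw [Subgroup.relIndex, hk]; exact dvd_pow_self 2 hk0)
  rw [hk0, pow_zero, Subgroup.index_eq_one, Subgroup.subgroupOf_eq_top] at hk
  exact hk.trans (autInducedBy_le_autGroup E le_rfl)

theorem isSaturated_le_of_essential (hX : IsPGroup 2 X) (hA : IsPGroup 2 (MulAut (⊤ : Subgroup X)))
    {F E : Sys X} (hF : F.IsSaturated 2)
    (h : ∀ P, F.IsEssential 2 P → F.autGroup P ≤ E.autGroup P) : F ≤ E := by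
  refine le_of_autGroup_essential (hX.to_subgroup ⊤) hF fun P hP => ?_
  rcases hP with rfl | hP
  · exact autGroup_top_le hX hA hF E
  · exact h P hP

theorem eq_inner_of_no_essential (hX : IsPGroup 2 X) (hA : IsPGroup 2 (MulAut (⊤ : Subgroup X)))
    {F : Sys X} (hF : F.IsSaturated 2) (h : ∀ P, ¬ F.IsEssential 2 P) :
    F = innerFusionSystem (⊤ : Subgroup X) :=
  le_antisymm' (isSaturated_le_of_essential hX hA hF fun P hP => absurd hP (h P))
    (innerFusionSystem_le F)

theorem not_nt_inner (hX : IsPGroup 2 X) (P : Subgroup X) :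
    ¬ NT (innerFusionSystem (⊤ : Subgroup X)) P := by
  refine fun hn => hn ((isPGroup_autInducedBy (hX.to_subgroup ⊤) P).to_le fun α hα => ?_)
  obtain ⟨-, t, ht, he⟩ := isMap_inner_iff.1 ((mem_autGroup_iff (le_top' P)).1 hα)
  exact Subgroup.subset_closure ⟨t, ht, fun x => by rw [← autMap_coe]; exact he x x.2⟩

/-- Maps congruent to the identity modulo a subgroup containing every essential subgroup. -/
theorem mem_of_isMap (hX : IsPGroup 2 X) (hA : IsPGroup 2 (MulAut (⊤ : Subgroup X))) {E : Sys X}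
    (hE : E.IsSaturated 2) {K : Subgroup X} (hK : ⁅(⊤ : Subgroup X), (⊤ : Subgroup X)⁆ ≤ K)
    (h : ∀ P, E.IsEssential 2 P → P ≤ K) {P : Subgroup X} {f : X → X} (hf : IsMap E P f) {x : X}
    (hx : x ∈ P) : x⁻¹ * f x ∈ K := by
  have hle : E ≤ goodSys E K hK := isSaturated_le_of_essential hX hA hE fun Q hQ α hα => by
    refine (mem_autGroup_iff (le_top' Q)).2 (isMap_goodSys.2 ⟨(mem_autGroup_iff (le_top' Q)).1 hα, ?_⟩)
    intro y hy
    exact K.mul_mem (K.inv_mem (h Q hQ hy)) (h Q hQ (autMap_mem α hy))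
  exact (isMap_goodSys.1 ((le_iff_isMap.1 hle) P f hf)).2 x hx

/-- Odd-order automorphisms fixing an index-two subgroup pointwise are trivial. -/
theorem eq_one_of_fix_index_two {P : Subgroup X} (hX : IsPGroup 2 X) {φ : MulAut P}
    (ho : Odd (orderOf φ)) {K : Subgroup P} (hK : K.index = 2) (hfix : ∀ k ∈ K, φ k = k) : φ = 1 := by
  refine MulEquiv.ext fun v => ?_
  by_cases hv : v ∈ K
  · exact hfix v hv
  set k := v⁻¹ * φ v with hk
  have hkK : k ∈ K := by
    refine (Subgroup.mul_mem_iff_of_index_two hK).2 (iff_of_false (fun h => hv (inv_mem_iff.1 h)) fun h => ?_)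
    have e := hfix _ h
    rw [φ.injective e] at h
    exact hv h
  have hit : ∀ r : ℕ, (φ ^ r) v = v * k ^ r := by
    intro r
    induction r with
    | zero => simp
    | succ r ih =>
      rw [pow_succ', MulAut.mul_apply, ih, map_mul, map_pow, hfix k hkK,
        show φ v = v * k by simp [hk], mul_assoc, ← pow_succ']
  have h1 := hit (orderOf φ)
  rw [pow_orderOf_eq_one] at h1
  have hd : orderOf k ∣ orderOf φ := orderOf_dvd_of_pow_eq_one (mul_left_cancel (a := v)
    (by rw [mul_one]; exact h1.symm))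
  obtain ⟨j, hj⟩ := (hX.to_subgroup P) k
  obtain ⟨i, -, hi⟩ := (Nat.dvd_prime_pow Nat.prime_two).1 (orderOf_dvd_of_pow_eq_one hj)
  rcases i with _ | i
  · have hk1 : k = 1 := orderOf_eq_one_iff.1 hi
    rw [hk, inv_mul_eq_one] at hk1
    exact hk1.symm
  · rw [hi] at hd
    have hev : Even (orderOf φ) := (even_iff_two_dvd).2 ((dvd_pow_self 2 (by omega)).trans hd)
    exact absurd ho (Nat.not_odd_iff_even.2 hev)

/-- An odd-order automorphism preserving a cyclic subgroup of index two is trivial. -/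
theorem eq_one_of_cyclic_index_two {P : Subgroup X} (hX : IsPGroup 2 X) {φ : MulAut P}
    (ho : Odd (orderOf φ)) {K : Subgroup P} (hK : K.index = 2) (hc : IsCyclic K)
    (hpres : ∀ k ∈ K, φ k ∈ K) : φ = 1 := by
  obtain ⟨g, hg⟩ := (Subgroup.isCyclic_iff_exists_zpowers_eq_top K).1 hc
  subst hg
  have hfix := fix_cyclic (hX.to_subgroup P) ho (u := g) (hpres g (Subgroup.mem_zpowers g))
  refine eq_one_of_fix_index_two hX ho hK ?_
  rintro _ ⟨i, rfl⟩
  rw [map_zpow, hfix]

end Generic

/-! ### The pullback of the system of a group -/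

section Pull

variable [Finite X] {G : Type*} [Group G] {j : X →* G}

/-- The system of `G` pulled back along an injective homomorphism. -/
def pullSys (j : X →* G) (hj : Function.Injective j) : Sys X where
  Hom P := {φ | ∃ g : G, ∀ x : P, j (φ x) = g * j (x : X) * g⁻¹}
  le_of_mem _ := ⟨le_top, fun _ => Subgroup.mem_top _⟩
  injective_of_mem := by
    rintro P φ ⟨g, hg⟩ a b hab
    have h : g * j a * g⁻¹ = g * j b * g⁻¹ := by rw [← hg, ← hg, hab]
    exact Subtype.ext (hj (mul_left_cancel (mul_right_cancel h)))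
  conj_mem {P g} _ _ := ⟨j g, fun x => by simp [conjHom]⟩
  comp_mem := by
    rintro P Q φ ψ ⟨g, hg⟩ ⟨k, hk⟩ h
    exact ⟨k * g, fun x => by
      show j (ψ ⟨φ x, h x⟩) = _
      rw [hk, hg]; group⟩
  inv_mem := by
    rintro P φ ⟨g, hg⟩
    have hi : Function.Injective φ := fun a b hab => by
      have h : g * j a * g⁻¹ = g * j b * g⁻¹ := by rw [← hg, ← hg, hab]
      exact Subtype.ext (hj (mul_left_cancel (mul_right_cancel h)))
    refine ⟨P.subtype.comp (MonoidHom.ofInjective hi).symm.toMonoidHom, ⟨g⁻¹, ?_⟩, fun x => ?_⟩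
    · rintro ⟨_, x, rfl⟩
      have e : (MonoidHom.ofInjective hi).symm ⟨φ x, ⟨x, rfl⟩⟩ = x :=
        (MonoidHom.ofInjective hi).symm_apply_eq.2 rfl
      show j ((MonoidHom.ofInjective hi).symm ⟨φ x, ⟨x, rfl⟩⟩ : X) = _
      rw [e, hg]; group
    · exact congrArg Subtype.val ((MonoidHom.ofInjective hi).symm_apply_eq.2 rfl : _ = x)

variable (hj : Function.Injective j)

theorem isRealizedBy_pull :
    (pullSys j hj).IsRealizedBy (j.comp (⊤ : Subgroup X).subtype) :=
  ⟨hj.comp Subtype.val_injective, fun _ _ _ _ => Iff.rfl⟩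

theorem isSaturated_pull [Finite G] (hX : IsPGroup 2 X)
    (hT : ∃ T : Sylow 2 G, (T : Subgroup G) = j.range) : (pullSys j hj).IsSaturated 2 := by
  obtain ⟨T, hT⟩ := hT
  refine isSaturated_of_realized (hX.to_subgroup ⊤) (isRealizedBy_pull hj) ⟨T, ?_⟩
  rw [hT, MonoidHom.range_comp, Subgroup.range_subtype, ← MonoidHom.range_eq_map]

theorem mem_aut_pull {P : Subgroup X} {α : MulAut P} :
    α ∈ (pullSys j hj).autGroup P ↔ ∃ g : G, ∀ x : P, j (α x : X) = g * j (x : X) * g⁻¹ := by
  rw [mem_autGroup_iff (le_top' P)]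
  constructor
  · rintro ⟨φ, ⟨g, hg⟩, he⟩
    exact ⟨g, fun x => by rw [← hg, he, autMap_coe]⟩
  · rintro ⟨g, hg⟩
    exact ⟨P.subtype.comp α.toMonoidHom, ⟨g, hg⟩, fun x => (autMap_coe α x).symm⟩

theorem realizable_pull {G : Type u} [Group G] [Finite G] {j : X →* G} (hj : Function.Injective j)
    (hT : ∃ T : Sylow 2 G, (T : Subgroup G) = j.range) : (pullSys j hj).IsRealizable 2 := by
  obtain ⟨T, hT⟩ := hT
  refine ⟨G, inferInstance, inferInstance, _, isRealizedBy_pull hj, T, ?_⟩
  rw [hT, MonoidHom.range_comp, Subgroup.range_subtype, ← MonoidHom.range_eq_map]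

end Pull

/-! ### Constrained systems -/

theorem realizable_of_normal [Finite X] (hX : IsPGroup 2 X) {F : Sys X} (hF : F.IsSaturated 2)
    {Q : Subgroup X} (hc : F.IsCentric Q)
    (htop : ∀ α ∈ F.autGroup ⊤, autMap α '' (Q : Set X) = Q)
    (h : ∀ P, F.IsEssential 2 P → Q ≤ P ∧ ∀ α ∈ F.autGroup P, autMap α '' (Q : Set X) = Q) :
    F.IsRealizable 2 := by
  have hn : F.IsNormal Q := isNormal_of_essential (hX.to_subgroup ⊤) hF fun P hP => by
    rcases hP with rfl | hP
    · exact ⟨le_top, htop⟩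
    · exact h P hP
  obtain ⟨G, hG, ι, hfin, hr, hT, -⟩ := exists_model (hX.to_subgroup ⊤) F ⟨hF, Q, hn, hc⟩
  exact ⟨G, hG, hfin, ι, hr, hT⟩

theorem realizable_of_no_essential [Finite X] (hX : IsPGroup 2 X) {F : Sys X} (hF : F.IsSaturated 2)
    (h : ∀ P, ¬ F.IsEssential 2 P) : F.IsRealizable 2 := by
  refine realizable_of_normal hX hF (Q := ⊤) (isCentric_S F) (fun α _ => image_autMap α)
    fun P hP => absurd hP (h P)

end Cfsg.Agent.H39.FusionShape
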